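import Mathlib

/-! The graded ring `⊕ₙ A_{≥ n} Xⁿ` of a graded ring. -/

set_option autoImplicit false

universe u

open Polynomial

namespace Groth.Agent.GrNat

variable {R A B : Type u} [CommRing R] [CommRing A] [Algebra R A] (𝒜 : ℕ → Submodule R A) [GradedAlgebra 𝒜]

/-- finitely many homogeneous generators of positive degree -/
def HasGens : Prop :=
  ∃ s : Finset A, Algebra.adjoin (A := A) (𝒜 0) (s : Set A) = ⊤ ∧ ∀ i ∈ s, ∃ n ≠ 0, i ∈ 𝒜 n

theorem hasGens_of_fg (h : (HomogeneousIdeal.irrelevant 𝒜).toIdeal.FG) : HasGens 𝒜 := by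
  classical
  obtain ⟨F, hF⟩ := h
  let s : Finset A := F.biUnion fun x => ((DirectSum.decompose 𝒜 x).support.filter (· ≠ 0)).image
    fun i => (DirectSum.decompose 𝒜 x i : A)
  have hs : ∀ i ∈ s, ∃ n ≠ 0, i ∈ 𝒜 n := fun i hi => by
    simp only [s, Finset.mem_biUnion, Finset.mem_image, Finset.mem_filter] at hi
    obtain ⟨x, -, n, ⟨-, hn⟩, rfl⟩ := hi
    exact ⟨n, hn, SetLike.coe_mem _⟩
  have hle : (HomogeneousIdeal.irrelevant 𝒜).toIdeal ≤ Ideal.span (s : Set A) := by
    rw [← hF, Ideal.span_le]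
    intro x hx
    have hx0 : (DirectSum.decompose 𝒜 x 0 : A) = 0 := by
      have hx' : x ∈ (HomogeneousIdeal.irrelevant 𝒜).toIdeal := hF ▸ Ideal.subset_span hx
      exact (HomogeneousIdeal.mem_irrelevant_iff 𝒜 x).1 hx'
    rw [SetLike.mem_coe, ← DirectSum.sum_support_decompose 𝒜 x]
    refine Ideal.sum_mem _ fun i hi => ?_
    rcases eq_or_ne i 0 with rfl | hi0
    · rw [hx0]; exact zero_mem _
    · exact Ideal.subset_span (Finset.mem_biUnion.2 ⟨x, hx, Finset.mem_image.2 ⟨i, Finset.mem_filter.2 ⟨hi, hi0⟩, rfl⟩⟩)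
  refine ⟨s, ?_, hs⟩
  have key : ∀ m, ∀ a ∈ 𝒜 m, a ∈ Algebra.adjoin (A := A) (𝒜 0) (s : Set A) := by
    intro m
    induction m using Nat.strong_induction_on with
    | _ m ih =>
      intro a ha
      rcases Nat.eq_zero_or_pos m with rfl | hm
      · exact Subalgebra.algebraMap_mem _ (⟨a, ha⟩ : 𝒜 0)
      obtain ⟨c, hc⟩ := Submodule.mem_span_finset'.1 (hle (HomogeneousIdeal.mem_irrelevant_of_mem 𝒜 hm ha))
      rw [← DirectSum.decompose_of_mem_same 𝒜 ha, ← hc, DirectSum.decompose_sum, DFinsupp.finset_sum_apply,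
        AddSubmonoidClass.coe_finset_sum]
      refine Subalgebra.sum_mem _ fun x _ => ?_
      obtain ⟨d, hd, hxd⟩ := hs x.1 x.2
      rw [smul_eq_mul, DirectSum.coe_decompose_mul_of_right_mem 𝒜 m hxd]
      split_ifs with hdm
      · exact Subalgebra.mul_mem _ (ih (m - d) (by omega) _ (SetLike.coe_mem _)) (Algebra.subset_adjoin x.2)
      · exact zero_mem _
  rw [eq_top_iff]
  intro a _
  rw [← DirectSum.sum_support_decompose 𝒜 a]
  exact Subalgebra.sum_mem _ fun i _ => key i _ (SetLike.coe_mem _)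

theorem finiteType_of_hasGens (h : HasGens 𝒜) : Algebra.FiniteType (𝒜 0) A :=
  ⟨⟨h.choose, h.choose_spec.1⟩⟩

theorem hasGens_of_finiteType [Algebra.FiniteType (𝒜 0) A] : HasGens 𝒜 :=
  GradedAlgebra.exists_finset_adjoin_eq_top_and_homogeneous_ne_zero 𝒜

variable [CommRing B] [Algebra R B] (ℬ : ℕ → Submodule R B) [GradedAlgebra ℬ] (φ : B →ₐ[R] Polynomial A)
  (hdeg : ∀ n : ℕ, Submodule.map φ.toLinearMap (ℬ n) =
      Submodule.map ((Polynomial.monomial n : A →ₗ[A] Polynomial A).restrictScalars R) (⨆ (m : ℕ) (_ : n ≤ m), 𝒜 m))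
include hdeg

omit [GradedAlgebra 𝒜] [GradedAlgebra ℬ] in
theorem exists_preimage {n m : ℕ} (hnm : n ≤ m) {a : A} (ha : a ∈ 𝒜 m) : ∃ b ∈ ℬ n, φ b = monomial n a := by
  have : monomial n a ∈ Submodule.map φ.toLinearMap (ℬ n) := by
    rw [hdeg]
    exact ⟨a, Submodule.mem_iSup_of_mem m (Submodule.mem_iSup_of_mem hnm ha), rfl⟩
  exact this

omit [GradedAlgebra ℬ] in
theorem exists_preimage_C (a : A) : ∃ b ∈ ℬ 0, φ b = C a := by
  classical
  rw [← DirectSum.sum_support_decompose 𝒜 a]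
  choose g hg hgφ using fun i => exists_preimage 𝒜 ℬ φ hdeg (Nat.zero_le i) (SetLike.coe_mem (DirectSum.decompose 𝒜 a i))
  exact ⟨∑ i ∈ (DirectSum.decompose 𝒜 a).support, g i, Submodule.sum_mem _ fun i _ => hg i, by
    rw [map_sum, map_sum]; exact Finset.sum_congr rfl fun i _ => by rw [hgφ i, monomial_zero_left]⟩

omit [GradedAlgebra 𝒜] [GradedAlgebra ℬ] in
theorem exists_monomial {n : ℕ} {b : B} (hb : b ∈ ℬ n) :
    ∃ w ∈ (⨆ (m : ℕ) (_ : n ≤ m), 𝒜 m), φ b = monomial n w := by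
  have : φ b ∈ Submodule.map φ.toLinearMap (ℬ n) := ⟨b, hb, rfl⟩
  rw [hdeg] at this
  obtain ⟨w, hw, e⟩ := this
  exact ⟨w, hw, e.symm⟩

theorem exists_gens (hφ : Function.Injective φ) (hG : HasGens 𝒜) :
    ∃ T : Finset B, ∀ S' : Subring B, (ℬ 0 : Set B) ⊆ S' → (T : Set B) ⊆ S' → S' = ⊤ := by
  classical
  obtain ⟨s, hs, hdg⟩ := hG
  choose d hd0 hd using hdg
  choose g hgB hgφ using fun (p : Σ x : s, Fin (d x.1 x.2 + 1)) =>
    exists_preimage 𝒜 ℬ φ hdeg (Nat.lt_succ_iff.1 p.2.2) (hd p.1.1 p.1.2)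
  refine ⟨Finset.univ.image g, fun S' h0 hT => ?_⟩
  let P : Subring (Polynomial A) := S'.map φ.toRingHom
  have hC : ∀ a, C a ∈ P := fun a => by
    obtain ⟨b, hb, e⟩ := exists_preimage_C 𝒜 ℬ φ hdeg a
    exact ⟨b, h0 hb, e⟩
  have hmon : ∀ M ∈ Submonoid.closure (s : Set A), ∃ D, M ∈ 𝒜 D ∧ ∀ n ≤ D, monomial n M ∈ P := by
    intro M hM
    induction hM using Submonoid.closure_induction with
    | mem x hx =>
      refine ⟨d x hx, hd x hx, fun n hn => ?_⟩
      exact ⟨g ⟨⟨x, hx⟩, ⟨n, Nat.lt_succ_of_le hn⟩⟩,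
        hT (Finset.mem_coe.2 (Finset.mem_image.2 ⟨_, Finset.mem_univ _, rfl⟩)), hgφ ⟨⟨x, hx⟩, ⟨n, Nat.lt_succ_of_le hn⟩⟩⟩
    | one => exact ⟨0, SetLike.one_mem_graded 𝒜, fun n hn => by
        obtain rfl : n = 0 := by omega
        rw [monomial_zero_left]; exact hC 1⟩
    | mul x y _ _ hx hy =>
      obtain ⟨D, hxD, hx⟩ := hx
      obtain ⟨E, hyE, hy⟩ := hy
      refine ⟨D + E, SetLike.mul_mem_graded hxD hyE, fun n hn => ?_⟩
      rw [show n = min n D + (n - min n D) by omega, ← monomial_mul_monomial]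
      exact mul_mem (hx _ (min_le_right _ _)) (hy _ (by omega))
  have hall : ∀ a : A, ∀ m n, n ≤ m → monomial n (DirectSum.decompose 𝒜 a m : A) ∈ P := by
    intro a
    have ha : a ∈ Subalgebra.toSubmodule (Algebra.adjoin (A := A) (𝒜 0) (s : Set A)) := by rw [hs]; trivial
    rw [Algebra.adjoin_eq_span] at ha
    induction ha using Submodule.span_induction with
    | mem M hM =>
      intro m n hnm
      obtain ⟨D, hMD, hM'⟩ := hmon M hM
      by_cases h : D = m
      · subst h; rw [DirectSum.decompose_of_mem_same 𝒜 hMD]; exact hM' n hnm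
      · rw [DirectSum.decompose_of_mem_ne 𝒜 hMD h, map_zero]; exact zero_mem _
    | zero => intro m n _; simp
    | add x y _ _ hx hy =>
      intro m n h
      rw [DirectSum.decompose_add, DirectSum.add_apply, AddMemClass.coe_add, map_add]
      exact add_mem (hx m n h) (hy m n h)
    | smul c x _ hx =>
      intro m n h
      rw [show c • x = (c : A) * x from rfl, DirectSum.coe_decompose_mul_of_left_mem_of_le 𝒜 c.2 (Nat.zero_le m),
        Nat.sub_zero, ← C_mul_monomial]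
      exact mul_mem (hC _) (hx m n h)
  rw [eq_top_iff]
  intro b _
  rw [← DirectSum.sum_support_decompose ℬ b]
  refine Subring.sum_mem _ fun n _ => ?_
  obtain ⟨w, hw, hwe⟩ := exists_monomial 𝒜 ℬ φ hdeg (SetLike.coe_mem (DirectSum.decompose ℬ b n))
  have hP : monomial n w ∈ P := by
    rw [iSup_subtype'] at hw
    refine Submodule.iSup_induction _ (motive := fun w => monomial n w ∈ P) hw (fun m a ha => ?_) (by simp)
      (fun x y hx hy => by simpa using add_mem hx hy)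
    have := hall a m.1 n m.2
    rwa [DirectSum.decompose_of_mem_same 𝒜 ha] at this
  obtain ⟨b', hb', e⟩ := hP
  exact (hφ (e.trans hwe.symm) ▸ hb' :)

omit [GradedAlgebra ℬ] in
theorem exists_ringHom (hφ : Function.Injective φ) : ∃ e : A →+* B, (∀ a, φ (e a) = C a) ∧ ∀ a, e a ∈ ℬ 0 := by
  choose e he heφ using exists_preimage_C 𝒜 ℬ φ hdeg
  exact ⟨{ toFun := e
           map_one' := hφ (by rw [heφ, map_one, map_one])
           map_mul' := fun x y => hφ (by rw [heφ, map_mul, map_mul, heφ, heφ])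
           map_zero' := hφ (by rw [heφ, map_zero, map_zero])
           map_add' := fun x y => hφ (by rw [heφ, map_add, map_add, heφ, heφ]) }, heφ, he⟩

theorem isNoetherianRing_iff' (hφ : Function.Injective φ) : IsNoetherianRing B ↔ IsNoetherianRing A := by
  obtain ⟨e, he, he0⟩ := exists_ringHom 𝒜 ℬ φ hdeg hφ
  refine ⟨fun _ => isNoetherianRing_of_surjective B A ((Polynomial.constantCoeff).comp φ.toRingHom)
    fun a => ⟨e a, by simp [he]⟩, fun _ => ?_⟩
  obtain ⟨T, hT⟩ := exists_gens 𝒜 ℬ φ hdeg hφ (hasGens_of_fg 𝒜 (IsNoetherian.noetherian _))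
  let f : MvPolynomial T A →+* B := MvPolynomial.eval₂Hom e (fun t => (t : B))
  refine isNoetherianRing_of_surjective (MvPolynomial T A) B f (RingHom.range_eq_top.1 (hT _ (fun b hb => ?_) fun t ht => ?_))
  · obtain ⟨w, -, hw⟩ := exists_monomial 𝒜 ℬ φ hdeg hb
    refine ⟨MvPolynomial.C w, hφ ?_⟩
    rw [hw, monomial_zero_left, MvPolynomial.eval₂Hom_C, he]
  · exact ⟨MvPolynomial.X ⟨t, ht⟩, MvPolynomial.eval₂Hom_X' _ _ _⟩

theorem finiteType_iff' (hφ : Function.Injective φ) : Algebra.FiniteType (ℬ 0) B ↔ Algebra.FiniteType (𝒜 0) A := by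
  classical
  constructor
  · intro _
    obtain ⟨t, ht, htd⟩ := GradedAlgebra.exists_finset_adjoin_eq_top_and_homogeneous_ne_zero ℬ
    refine finiteType_of_hasGens 𝒜 (hasGens_of_fg 𝒜 ⟨(t.image fun x => (φ x).coeff 1).filter
      (fun a => a ∈ (HomogeneousIdeal.irrelevant 𝒜).toIdeal), le_antisymm (Ideal.span_le.2 fun a ha => (Finset.mem_filter.1 ha).2) ?_⟩)
    intro a ha
    set J := Ideal.span (↑((t.image fun x => (φ x).coeff 1).filter
      (fun a => a ∈ (HomogeneousIdeal.irrelevant 𝒜).toIdeal)) : Set A) with hJ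
    have key : ∀ b : B, (φ b).coeff 1 ∈ J := by
      intro b
      have hb : b ∈ Algebra.adjoin (A := B) (ℬ 0) (t : Set B) := ht ▸ Algebra.mem_top
      induction hb using Algebra.adjoin_induction with
      | mem x hx =>
        obtain ⟨n, hn, hxn⟩ := htd x hx
        obtain ⟨w, hw, hwe⟩ := exists_monomial 𝒜 ℬ φ hdeg hxn
        rw [hwe, coeff_monomial]
        split_ifs with h1
        · subst h1
          refine Ideal.subset_span (Finset.mem_filter.2 ⟨Finset.mem_image.2 ⟨x, hx, by simp [hwe]⟩, ?_⟩)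
          rw [iSup_subtype'] at hw
          exact Submodule.iSup_induction _ (motive := fun w => w ∈ (HomogeneousIdeal.irrelevant 𝒜).toIdeal) hw
            (fun m a ha => HomogeneousIdeal.mem_irrelevant_of_mem 𝒜 m.2 ha) (zero_mem _) (fun _ _ => add_mem)
        · exact zero_mem _
      | algebraMap r =>
        obtain ⟨w, -, hwe⟩ := exists_monomial 𝒜 ℬ φ hdeg r.2
        show (φ (r : B)).coeff 1 ∈ J
        simp [hwe, coeff_monomial]
      | add x y _ _ hx hy => rw [map_add, coeff_add]; exact add_mem hx hy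
      | mul x y _ _ hx hy =>
        rw [map_mul, coeff_mul, Finset.Nat.sum_antidiagonal_succ]
        simp only [Finset.Nat.antidiagonal_zero, Finset.sum_singleton, zero_add]
        exact add_mem (Ideal.mul_mem_left _ _ hy) (Ideal.mul_mem_right _ _ hx)
    rw [← DirectSum.sum_support_decompose 𝒜 a]
    refine Ideal.sum_mem _ fun i _ => ?_
    rcases Nat.eq_zero_or_pos i with rfl | hi
    · rw [show (DirectSum.decompose 𝒜 a 0 : A) = 0 from (HomogeneousIdeal.mem_irrelevant_iff 𝒜 a).1 ha]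
      exact zero_mem _
    · obtain ⟨b, -, hb⟩ := exists_preimage 𝒜 ℬ φ hdeg (n := 1) hi (SetLike.coe_mem (DirectSum.decompose 𝒜 a i))
      have := key b
      rwa [hb, coeff_monomial, if_pos rfl] at this
  · intro _
    obtain ⟨T, hT⟩ := exists_gens 𝒜 ℬ φ hdeg hφ (hasGens_of_finiteType 𝒜)
    refine ⟨⟨T, Algebra.toSubsemiring_eq_top.1 ?_⟩⟩
    have := hT (Algebra.adjoin (A := B) (ℬ 0) (T : Set B)).toSubring
      (fun b hb => Subalgebra.algebraMap_mem (Algebra.adjoin (A := B) (ℬ 0) (T : Set B)) (⟨b, hb⟩ : ℬ 0))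
      Algebra.subset_adjoin
    exact congrArg Subring.toSubsemiring this

end Groth.Agent.GrNat
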